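import Cfsg.Agent.Lib.Helper23.SylowPrime2
import Cfsg.Agent.Lib.Helper23.Burnside
import Cfsg.Agent.Lib.Helper23.SylowEmbed
import Cfsg.Agent.Lib.Helper23.SylowInter

namespace Cfsg.Agent.Lib.Helper23.G504

open Cfsg.Agent.Lib.Helper23

variable {G : Type*} [Group G] [Finite G] [IsSimpleGroup G]

set_option linter.unusedSectionVars false

theorem fact2 : Fact (Nat.Prime 2) := ⟨Nat.prime_two⟩
theorem fact3 : Fact (Nat.Prime 3) := ⟨Nat.prime_three⟩
theorem fact7 : Fact (Nat.Prime 7) := ⟨by norm_num⟩

attribute [local instance] fact2 fact3 fact7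

theorem not_comm (h : Nat.card G = 504) : ¬ IsMulCommutative G :=
  not_isMulCommutative_of_simple (by rw [h]; norm_num)

theorem seven_le_index (h : Nat.card G = 504) (H : Subgroup G) (hH : H ≠ ⊤) : 7 ≤ H.index :=
  prime_le_index (not_comm h) 7 (by norm_num) (by rw [h]; norm_num) H hH

/-- A simple group of order 504 has no subgroup of index 7 (else `A₇` would have a subgroup of
index 5). -/
theorem index_ne_seven (h : Nat.card G = 504) (H : Subgroup G) : H.index ≠ 7 := by
  intro h7
  have hHtop : H ≠ ⊤ := by
    intro htop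
    rw [htop, Subgroup.index_top] at h7
    omega
  obtain ⟨f, hf⟩ := Cfsg.Agent.S0991.result (not_comm h) H hHtop
  have hA : IsSimpleGroup ↥(alternatingGroup (Fin H.index)) :=
    alternatingGroup.isSimpleGroup (by simp [h7])
  have : Nontrivial (Fin H.index) := Fin.nontrivial_iff_two_le.mpr (by omega)
  have hAc : Nat.card ↥(alternatingGroup (Fin H.index)) = 2520 := by
    have := two_mul_nat_card_alternatingGroup (α := Fin H.index)
    rw [Nat.card_eq_fintype_card (α := Equiv.Perm (Fin H.index)), Fintype.card_perm,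
      Fintype.card_fin] at this
    have e : Nat.factorial H.index = 5040 := by rw [h7]; decide
    rw [e] at this
    omega
  have hAnc : ¬ IsMulCommutative ↥(alternatingGroup (Fin H.index)) :=
    not_isMulCommutative_of_simple (by rw [hAc]; norm_num)
  have hr : Nat.card ↥(f.range) = 504 := by
    rw [← h]; exact (Nat.card_congr (Equiv.ofInjective f hf)).symm
  have hidx : f.range.index = 5 := by
    have := Subgroup.card_mul_index f.range
    rw [hr, hAc] at this
    omega
  have hne : f.range ≠ ⊤ := by
    intro htop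
    rw [htop, Subgroup.index_top] at hidx
    omega
  have := card_dvd_factorial_index hAnc f.range hne
  rw [hidx, hAc] at this
  have e : Nat.factorial 5 = 120 := by decide
  rw [e] at this
  omega

theorem eight_le_index (h : Nat.card G = 504) (H : Subgroup G) (hH : H ≠ ⊤) : 8 ≤ H.index := by
  have h1 := seven_le_index h H hH
  have h2 := index_ne_seven h H
  omega

theorem card_sylow7 (h : Nat.card G = 504) (P : Sylow 7 G) :
    Nat.card ↥(P : Subgroup G) = 7 := by
  simpa using sylow_card_of_card_eq 7 1 72 (by rw [h]; norm_num) (by norm_num) P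

theorem card_sylow3 (h : Nat.card G = 504) (P : Sylow 3 G) :
    Nat.card ↥(P : Subgroup G) = 9 := by
  simpa using sylow_card_of_card_eq 3 2 56 (by rw [h]; norm_num) (by norm_num) P

theorem card_sylow2 (h : Nat.card G = 504) (P : Sylow 2 G) :
    Nat.card ↥(P : Subgroup G) = 8 := by
  simpa using sylow_card_of_card_eq 2 3 63 (by rw [h]; norm_num) (by norm_num) P

/-- the number of Sylow subgroups is at least 8. -/
theorem eight_le_card_sylow (h : Nat.card G = 504) (p : ℕ) [Fact p.Prime] (P : Sylow p G)
    (h1 : Nat.card ↥(P : Subgroup G) ≠ 1) (h2 : Nat.card ↥(P : Subgroup G) ≠ Nat.card G) :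
    8 ≤ Nat.card (Sylow p G) := by
  rw [card_sylow_eq_index_normalizer' p P]
  apply eight_le_index h
  intro htop
  have hn : (P : Subgroup G).Normal := Subgroup.normalizer_eq_top_iff.mp htop
  rcases hn.eq_bot_or_eq_top with hb | ht
  · apply h1; rw [hb]; simp
  · apply h2; rw [ht]; simp

theorem n7 (h : Nat.card G = 504) : Nat.card (Sylow 7 G) = 36 := by
  have hd := card_sylow_dvd_of_card_eq (G := G) 7 1 72 (by rw [h]; norm_num) (by norm_num)
  have hmod : Nat.card (Sylow 7 G) % 7 = 1 := card_sylow_modEq_one 7 G
  obtain ⟨P⟩ : Nonempty (Sylow 7 G) := inferInstance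
  have hge := eight_le_card_sylow h 7 P (by rw [card_sylow7 h]; norm_num)
    (by rw [card_sylow7 h, h]; norm_num)
  have hle := Nat.le_of_dvd (by norm_num) hd
  have hcases : Nat.card (Sylow 7 G) = 8 ∨ Nat.card (Sylow 7 G) = 36 := by
    generalize Nat.card (Sylow 7 G) = n at *
    interval_cases n <;> omega
  rcases hcases with h8 | h36
  swap
  · exact h36
  exfalso
  have hN := card_normalizer_mul_card_sylow 7 P
  rw [h8, h] at hN
  have hN' : Nat.card ↥(Subgroup.normalizer ((P : Subgroup G) : Set G)) = 63 := by omega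
  set H := Subgroup.normalizer ((P : Subgroup G) : Set G) with hH
  have hidx : H.index = 8 := by rw [← h8, Sylow.card_eq_index_normalizer P]; rfl
  have hHtop : H ≠ ⊤ := by
    intro htop
    rw [htop, Subgroup.index_top] at hidx
    omega
  obtain ⟨f, hf⟩ := Cfsg.Agent.S0991.result (not_comm h) H hHtop
  have hα : Fintype.card (Fin H.index) = 7 ∨ Fintype.card (Fin H.index) = 7 + 1 := by
    right; rw [Fintype.card_fin, hidx]
  have := two_mul_card_normalizer_dvd 7 (by norm_num) P (card_sylow7 h P) hα f hf
  rw [hN'] at this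
  norm_num at this

theorem card_normalizer7 (h : Nat.card G = 504) (P : Sylow 7 G) :
    Nat.card ↥(Subgroup.normalizer ((P : Subgroup G) : Set G)) = 7 * 2 := by
  have := card_normalizer_mul_card_sylow 7 P
  rw [n7 h, h] at this
  omega

theorem not_le7 (h : Nat.card G = 504) (P : Sylow 7 G) :
    ¬ Subgroup.normalizer ((P : Subgroup G) : Set G) ≤
      Subgroup.centralizer ((P : Subgroup G) : Set G) := fun hle =>
  false_of_normalizer_le_centralizer (not_comm h) 7 (by rw [h]; norm_num) P hle

theorem card_order7 (h : Nat.card G = 504) : Nat.card {g : G // orderOf g = 7} = 216 := by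
  rw [card_orderOf_eq_prime 7 (card_sylow7 h), n7 h]

/-- An element whose order is divisible by 7 has order 7. -/
theorem orderOf_eq_seven (h : Nat.card G = 504) (g : G) (hg : 7 ∣ orderOf g) : orderOf g = 7 :=
  orderOf_eq_prime_of_dvd 7 2 (by norm_num) (card_sylow7 h) (card_normalizer7 h)
    (not_le7 h) g hg

theorem n3 (h : Nat.card G = 504) : Nat.card (Sylow 3 G) = 28 := by
  have hd := card_sylow_dvd_of_card_eq (G := G) 3 2 56 (by rw [h]; norm_num) (by norm_num)
  have hmod : Nat.card (Sylow 3 G) % 3 = 1 := card_sylow_modEq_one 3 G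
  obtain ⟨Q⟩ : Nonempty (Sylow 3 G) := inferInstance
  have hge := eight_le_card_sylow h 3 Q (by rw [card_sylow3 h]; norm_num)
    (by rw [card_sylow3 h, h]; norm_num)
  have hle := Nat.le_of_dvd (by norm_num) hd
  generalize Nat.card (Sylow 3 G) = n at *
  interval_cases n <;> omega

theorem card_normalizer3 (h : Nat.card G = 504) (P : Sylow 3 G) :
    Nat.card ↥(Subgroup.normalizer ((P : Subgroup G) : Set G)) = 18 := by
  have := card_normalizer_mul_card_sylow 3 P
  rw [n3 h, h] at this
  omega

theorem not_le3 (h : Nat.card G = 504) (P : Sylow 3 G) :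
    ¬ Subgroup.normalizer ((P : Subgroup G) : Set G) ≤
      Subgroup.centralizer ((P : Subgroup G) : Set G) := fun hle =>
  false_of_normalizer_le_centralizer (not_comm h) 3 (by rw [h]; norm_num) P hle

end Cfsg.Agent.Lib.Helper23.G504
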