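import Cfsg.Agent.Lib.Helper23.G504.Six
import Cfsg.Agent.Lib.Helper23.G168.Classes
import Cfsg.Agent.Lib.Helper23.ConjClass

namespace Cfsg.Agent.Lib.Helper23.G504

open Cfsg.Agent.Lib.Helper23

variable {G : Type*} [Group G] [Finite G] [IsSimpleGroup G]

set_option linter.unusedSectionVars false

attribute [local instance] fact2 fact3 fact7

theorem orderOf_three_or_nine (h : Nat.card G = 504) (P : Sylow 3 G) (y : G)
    (hyP : y ∈ (P : Subgroup G)) (hy1 : y ≠ 1) : orderOf y = 3 ∨ orderOf y = 9 := by
  have hd : orderOf y ∣ 9 := by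
    rw [← card_sylow3 h P]; exact Subgroup.orderOf_dvd_natCard _ hyP
  have hle := Nat.le_of_dvd (by norm_num) hd
  have hne : orderOf y ≠ 1 := fun h1 => hy1 (orderOf_eq_one_iff.mp h1)
  have hpos := orderOf_pos y
  generalize orderOf y = m at *
  interval_cases m <;> omega

theorem sylow3_eq_centralizer (h : Nat.card G = 504) (P : Sylow 3 G) (y : G)
    (hyP : y ∈ (P : Subgroup G)) (hy : orderOf y = 3) :
    (P : Subgroup G) = Subgroup.centralizer ({y} : Set G) :=
  Subgroup.eq_of_le_of_card_ge (sylow3_le_centralizer h P y hyP)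
    (by rw [card_centralizer_order3 h y hy, card_sylow3 h P])

/-- Sylow 3-subgroups intersect trivially. -/
theorem sylow3_eq_of_mem (h : Nat.card G = 504) (P Q : Sylow 3 G) (y : G)
    (hyP : y ∈ (P : Subgroup G)) (hyQ : y ∈ (Q : Subgroup G)) (hy1 : y ≠ 1) : P = Q := by
  rcases orderOf_three_or_nine h P y hyP hy1 with h3 | h9
  · apply Sylow.ext
    rw [sylow3_eq_centralizer h P y hyP h3, sylow3_eq_centralizer h Q y hyQ h3]
  · have h3 : orderOf (y ^ 3) = 3 := by
      rw [orderOf_pow_of_dvd (by norm_num) (by rw [h9]; norm_num), h9]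
    apply Sylow.ext
    rw [sylow3_eq_centralizer h P (y ^ 3) (pow_mem hyP 3) h3,
      sylow3_eq_centralizer h Q (y ^ 3) (pow_mem hyQ 3) h3]

/-- There are 224 nonidentity 3-elements. -/
theorem card_three_elements (h : Nat.card G = 504) :
    Nat.card {g : G // g ≠ 1 ∧ ∃ P : Sylow 3 G, g ∈ (P : Subgroup G)} = 224 := by
  classical
  have := Fintype.ofFinite G
  have : Fintype (Sylow 3 G) := Fintype.ofFinite _
  rw [Nat.card_eq_fintype_card, Fintype.card_subtype]
  have heq : Finset.univ.filter (fun g : G => g ≠ 1 ∧ ∃ P : Sylow 3 G, g ∈ (P : Subgroup G)) =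
      Finset.univ.biUnion (fun P : Sylow 3 G =>
        (Finset.univ.filter (fun g : G => g ∈ (P : Subgroup G))).erase 1) := by
    ext g
    simp only [Finset.mem_filter, Finset.mem_univ, true_and, Finset.mem_biUnion,
      Finset.mem_erase]
    constructor
    · rintro ⟨h1, P, hP⟩; exact ⟨P, h1, hP⟩
    · rintro ⟨P, h1, hP⟩; exact ⟨h1, P, hP⟩
  rw [heq, Finset.card_biUnion]
  · have : ∀ P : Sylow 3 G,
        ((Finset.univ.filter (fun g : G => g ∈ (P : Subgroup G))).erase 1).card = 8 := by
      intro P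
      rw [Finset.card_erase_of_mem (by simp)]
      have := card_sylow3 h P
      rw [Nat.card_eq_fintype_card, Fintype.card_subtype] at this
      rw [this]
    simp_rw [this]
    rw [Finset.sum_const, Finset.card_univ, ← Nat.card_eq_fintype_card, n3 h]
    rfl
  · intro P _ Q _ hPQ
    show Disjoint _ _
    rw [Finset.disjoint_left]
    intro g hgP hgQ
    simp only [Finset.mem_erase, Finset.mem_filter, Finset.mem_univ, true_and] at hgP hgQ
    exact hPQ (sylow3_eq_of_mem h P Q g hgP.2 hgQ.2 hgP.1)

/-- an element commuting with an involution has order dividing 8. -/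
theorem orderOf_dvd_eight_of_commute (h : Nat.card G = 504) (t : G) (ht : orderOf t = 2) (c : G)
    (hc : c * t = t * c) : orderOf c ∣ 8 := by
  have hdvd : orderOf c ∣ 504 := h ▸ orderOf_dvd_natCard c
  have hcC : c ∈ Subgroup.centralizer ({t} : Set G) :=
    Subgroup.mem_centralizer_singleton_iff.mpr hc
  have h7 : ¬ 7 ∣ orderOf c := by
    intro h7
    apply not_seven_dvd_card_centralizer h t (by rw [ht]; norm_num) (by rw [ht]; norm_num)
    exact dvd_trans h7 (Subgroup.orderOf_dvd_natCard _ hcC)
  have h3 : ¬ 3 ∣ orderOf c := by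
    intro h3
    have hpos : 0 < orderOf c := orderOf_pos c
    have ho : orderOf (c ^ (orderOf c / 3)) = 3 := by
      rw [orderOf_pow_of_dvd (by
        intro h0
        have := Nat.div_eq_zero_iff.mp h0
        have := Nat.le_of_dvd hpos h3
        omega) (Nat.div_dvd_of_dvd h3)]
      exact Nat.div_div_self h3 hpos.ne'
    have htC : t ∈ Subgroup.centralizer ({c ^ (orderOf c / 3)} : Set G) := by
      rw [Subgroup.mem_centralizer_singleton_iff]
      have : Commute t c := hc.symm
      exact (this.pow_right _).eq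
    have := Subgroup.orderOf_dvd_natCard _ htC
    rw [card_centralizer_order3 h _ ho, ht] at this
    norm_num at this
  have hc7 : Nat.Coprime (orderOf c) 7 :=
    (Nat.Coprime.symm ((Nat.Prime.coprime_iff_not_dvd (by norm_num)).mpr h7))
  have hc3 : Nat.Coprime (orderOf c) 3 :=
    (Nat.Coprime.symm ((Nat.Prime.coprime_iff_not_dvd (by norm_num)).mpr h3))
  have h1 : orderOf c ∣ 72 * 7 := by norm_num; exact hdvd
  have h2 : orderOf c ∣ 72 := hc7.dvd_of_dvd_mul_right h1
  have h3' : orderOf c ∣ 24 * 3 := by norm_num; exact h2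
  have h4 : orderOf c ∣ 24 := hc3.dvd_of_dvd_mul_right h3'
  have h5 : orderOf c ∣ 8 * 3 := by norm_num; exact h4
  exact hc3.dvd_of_dvd_mul_right h5

omit [IsSimpleGroup G] in
theorem exists_central_involution (T : Subgroup G) (hT : IsPGroup 2 ↥T) [hnt : Nontrivial ↥T] :
    ∃ z ∈ T, orderOf z = 2 ∧ ∀ t ∈ T, t * z = z * t := by
  have hZ : Nontrivial ↥(Subgroup.center ↥T) := hT.center_nontrivial
  have hZp : IsPGroup 2 ↥(Subgroup.center ↥T) := hT.to_subgroup _
  obtain ⟨k, hk⟩ := IsPGroup.iff_card.mp hZp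
  have hk0 : k ≠ 0 := by
    intro h0
    rw [h0, pow_zero] at hk
    have := Finite.one_lt_card_iff_nontrivial.mpr hZ
    omega
  have h2 : 2 ∣ Nat.card ↥(Subgroup.center ↥T) := by rw [hk]; exact dvd_pow_self 2 hk0
  obtain ⟨z, hz⟩ := exists_prime_orderOf_dvd_card' 2 h2
  refine ⟨((z : ↥T) : G), (z : ↥T).2, ?_, ?_⟩
  · rw [Subgroup.orderOf_coe, Subgroup.orderOf_coe]; exact hz
  · intro t ht
    have := Subgroup.mem_center_iff.mp z.2 ⟨t, ht⟩
    exact congrArg Subtype.val this

/-- the centralizer of a central involution of a Sylow 2-subgroup has order 8. -/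
theorem card_centralizer_central (h : Nat.card G = 504) (T : Sylow 2 G) (z : G)
    (hz : orderOf z = 2) (hzT : ∀ t ∈ (T : Subgroup G), t * z = z * t) :
    Nat.card ↥(Subgroup.centralizer ({z} : Set G)) = 8 := by
  have hle : (T : Subgroup G) ≤ Subgroup.centralizer ({z} : Set G) := by
    intro t ht
    exact Subgroup.mem_centralizer_singleton_iff.mpr (hzT t ht)
  have h8 : 8 ∣ Nat.card ↥(Subgroup.centralizer ({z} : Set G)) := by
    rw [← card_sylow2 h T]; exact Subgroup.card_dvd_of_le hle
  have hp : IsPGroup 2 ↥(Subgroup.centralizer ({z} : Set G)) := by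
    intro c
    refine ⟨3, ?_⟩
    have hd := orderOf_dvd_eight_of_commute h z hz (c : G)
      (Subgroup.mem_centralizer_singleton_iff.mp c.2)
    apply Subtype.ext
    rw [Subgroup.coe_pow, Subgroup.coe_one]
    have e : (2 : ℕ) ^ 3 = 8 := by norm_num
    rw [e]
    exact orderOf_dvd_iff_pow_eq_one.mp hd
  obtain ⟨k, hk⟩ := IsPGroup.iff_card.mp hp
  have hd := card_dvd_504 h (Subgroup.centralizer ({z} : Set G))
  rw [hk] at hd h8 ⊢
  have hk3 : k ≤ 3 := by
    by_contra hcon
    have : 2 ^ 4 ∣ 2 ^ k := pow_dvd_pow 2 (by omega)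
    have := dvd_trans this hd
    norm_num at this
  have hk3' : 3 ≤ k := by
    by_contra hcon
    have hk2 : k ≤ 2 := by omega
    have : 2 ^ k ∣ 2 ^ 2 := pow_dvd_pow 2 hk2
    have := dvd_trans h8 this
    norm_num at this
  have : k = 3 := le_antisymm hk3 hk3'
  rw [this]; norm_num

/-- the partition of `G`. -/
theorem partition (h : Nat.card G = 504) (z : G) (hz : orderOf z = 2)
    (hCz : Nat.card ↥(Subgroup.centralizer ({z} : Set G)) = 8) (g : G) :
    g = 1 ∨ orderOf g = 7 ∨ (g ≠ 1 ∧ ∃ P : Sylow 3 G, g ∈ (P : Subgroup G)) ∨ IsConj z g := by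
  classical
  have := Fintype.ofFinite G
  set A := Finset.univ.filter (fun g : G => orderOf g = 7) with hA
  set B := Finset.univ.filter
    (fun g : G => g ≠ 1 ∧ ∃ P : Sylow 3 G, g ∈ (P : Subgroup G)) with hB
  set C := Finset.univ.filter (fun g : G => IsConj z g) with hC
  have hAc : A.card = 216 := by
    have := card_order7 h
    rwa [Nat.card_eq_fintype_card, Fintype.card_subtype] at this
  have hBc : B.card = 224 := by
    have := card_three_elements h
    rwa [Nat.card_eq_fintype_card, Fintype.card_subtype] at this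
  have hCc : C.card = 63 := by
    have := card_isConj_mul_card_centralizer z
    rw [hCz, h, Nat.card_eq_fintype_card, Fintype.card_subtype] at this
    have h2 : C.card * 8 = 504 := this
    omega
  have hoA : ∀ g ∈ A, orderOf g = 7 := by
    intro g hg
    simpa [hA] using hg
  have hoB : ∀ g ∈ B, orderOf g = 3 ∨ orderOf g = 9 := by
    intro g hg
    simp only [hB, Finset.mem_filter, Finset.mem_univ, true_and] at hg
    obtain ⟨hg1, P, hgP⟩ := hg
    exact orderOf_three_or_nine h P g hgP hg1
  have hoC : ∀ g ∈ C, orderOf g = 2 := by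
    intro g hg
    simp only [hC, Finset.mem_filter, Finset.mem_univ, true_and] at hg
    rw [Cfsg.Agent.Lib.Helper23.G168.orderOf_eq_of_isConj hg, hz]
  have hdAB : Disjoint A B := by
    rw [Finset.disjoint_left]
    intro g h1 h2
    have := hoA g h1
    have := hoB g h2
    omega
  have hdABC : Disjoint (A ∪ B) C := by
    rw [Finset.disjoint_left]
    intro g h1 h2
    have := hoC g h2
    rcases Finset.mem_union.mp h1 with h1 | h1
    · have := hoA g h1; omega
    · have := hoB g h1; omega
  have hdABC1 : Disjoint (A ∪ B ∪ C) {1} := by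
    rw [Finset.disjoint_left]
    intro g h1 h2
    rw [Finset.mem_singleton] at h2
    have ho : orderOf g = 1 := by rw [h2, orderOf_one]
    rcases Finset.mem_union.mp h1 with h1 | h1
    · rcases Finset.mem_union.mp h1 with h1 | h1
      · have := hoA g h1; omega
      · have := hoB g h1; omega
    · have := hoC g h1; omega
  have hU : (A ∪ B ∪ C ∪ {1}).card = 504 := by
    rw [Finset.card_union_of_disjoint hdABC1, Finset.card_union_of_disjoint hdABC,
      Finset.card_union_of_disjoint hdAB, hAc, hBc, hCc, Finset.card_singleton]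
  have huniv : A ∪ B ∪ C ∪ {1} = Finset.univ :=
    Finset.eq_univ_of_card _ (by rw [hU, ← Nat.card_eq_fintype_card, h])
  have hg : g ∈ A ∪ B ∪ C ∪ {1} := by rw [huniv]; exact Finset.mem_univ g
  simp only [Finset.mem_union, Finset.mem_singleton, hA, hB, hC, Finset.mem_filter,
    Finset.mem_univ, true_and] at hg
  tauto

/-- every element of 2-power order squares to 1 -/
theorem sq_eq_one_of_orderOf_dvd_eight (h : Nat.card G = 504) (c : G) (hc : orderOf c ∣ 8) :
    c ^ 2 = 1 := by
  obtain ⟨T⟩ : Nonempty (Sylow 2 G) := inferInstance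
  have hnt : Nontrivial ↥(T : Subgroup G) := by
    rw [← Finite.one_lt_card_iff_nontrivial, card_sylow2 h T]; norm_num
  obtain ⟨z, _, hz, hzT⟩ := exists_central_involution (T : Subgroup G) T.2
  have hCz := card_centralizer_central h T z hz hzT
  rcases partition h z hz hCz c with h1 | h7 | ⟨h1, P, hP⟩ | hconj
  · rw [h1]; simp
  · rw [h7] at hc; norm_num at hc
  · rcases orderOf_three_or_nine h P c hP h1 with h3 | h9
    · rw [h3] at hc; norm_num at hc
    · rw [h9] at hc; norm_num at hc
  · have := Cfsg.Agent.Lib.Helper23.G168.orderOf_eq_of_isConj hconj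
    rw [hz] at this
    rw [← this]; exact pow_orderOf_eq_one c

/-- The centralizer of an involution is abelian of exponent 2. -/
theorem centralizer_involution (h : Nat.card G = 504) (t : G) (ht : orderOf t = 2) :
    IsMulCommutative ↥(Subgroup.centralizer ({t} : Set G)) ∧
      ∀ c ∈ Subgroup.centralizer ({t} : Set G), c ^ 2 = 1 := by
  have hsq : ∀ c ∈ Subgroup.centralizer ({t} : Set G), c ^ 2 = 1 := by
    intro c hc
    exact sq_eq_one_of_orderOf_dvd_eight h c
      (orderOf_dvd_eight_of_commute h t ht c (Subgroup.mem_centralizer_singleton_iff.mp hc))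
  refine ⟨⟨⟨fun a b => ?_⟩⟩, hsq⟩
  apply Subtype.ext
  rw [Subgroup.coe_mul, Subgroup.coe_mul]
  have ha := hsq a a.2
  have hb := hsq b b.2
  have hab := hsq (a * b) (mul_mem a.2 b.2)
  rw [pow_two] at ha hb hab
  calc (a : G) * b = (a : G) * ((a * b) * (a * b)) * b := by rw [hab]; group
    _ = ((a : G) * a) * b * a * (b * b) := by group
    _ = b * a := by rw [ha, hb]; group

theorem sylow2_not_cyclic (h : Nat.card G = 504) (T : Sylow 2 G) :
    ¬ IsCyclic ↥(T : Subgroup G) := by
  intro hcyc
  obtain ⟨g, hg⟩ := IsCyclic.exists_ofOrder_eq_natCard (α := ↥(T : Subgroup G))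
  rw [card_sylow2 h T] at hg
  have h1 : orderOf (g : G) = 8 := by rw [Subgroup.orderOf_coe]; exact hg
  have h2 := sq_eq_one_of_orderOf_dvd_eight h (g : G) (by rw [h1])
  have h3 := orderOf_dvd_of_pow_eq_one h2
  rw [h1] at h3
  norm_num at h3

theorem sylow2_not_normal (h : Nat.card G = 504) (T : Sylow 2 G) :
    ¬ (T : Subgroup G).Normal := by
  intro hn
  have hc := card_sylow2 h T
  rcases hn.eq_bot_or_eq_top with hb | ht
  · rw [hb] at hc; simp at hc
  · rw [ht] at hc; simp [h] at hc

end Cfsg.Agent.Lib.Helper23.G504
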