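import Cfsg.Agent.Lib.Helper23.G504.Three
import Cfsg.Agent.Lib.Helper23.AbelianNPC
import Cfsg.Agent.Lib.Helper23.G168.Maximal

namespace Cfsg.Agent.Lib.Helper23.G504

open Cfsg.Agent.Lib.Helper23

variable {G : Type*} [Group G] [Finite G] [IsSimpleGroup G]

set_option linter.unusedSectionVars false

attribute [local instance] fact2 fact3 fact7

/-- the order of a subgroup divides 504 -/
theorem card_dvd_504 (h : Nat.card G = 504) (H : Subgroup G) : Nat.card ↥H ∣ 504 := by
  rw [← h]; exact Subgroup.card_subgroup_dvd_card H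

/-- an element commuting with an element of order `7` ... -/
theorem not_seven_dvd_card_centralizer (h : Nat.card G = 504) (y : G)
    (hy : (orderOf y).Coprime 7) (hy1 : orderOf y ≠ 1) :
    ¬ 7 ∣ Nat.card ↥(Subgroup.centralizer ({y} : Set G)) := by
  intro hd
  obtain ⟨⟨c, hcC⟩, hc⟩ :=
    exists_prime_orderOf_dvd_card' (G := ↥(Subgroup.centralizer ({y} : Set G))) 7 hd
  rw [Subgroup.orderOf_mk] at hc
  have hcomm : c * y = y * c := Subgroup.mem_centralizer_singleton_iff.mp hcC
  have hco : (orderOf c).Coprime (orderOf y) := by rw [hc]; exact hy.symm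
  have hmul := orderOf_mul_of_commute_coprime c y hcomm hco
  have h7 := orderOf_eq_seven h (c * y) (by rw [hmul, hc]; exact dvd_mul_right _ _)
  rw [hmul, hc] at h7
  have : orderOf y = 1 := by
    have : 7 * orderOf y = 7 * 1 := by rw [h7]
    exact Nat.eq_of_mul_eq_mul_left (by norm_num) this
  exact hy1 this

/-- every Sylow 3-subgroup containing an element `y` of order 3 is contained in `C(y)`. -/
theorem sylow3_le_centralizer (h : Nat.card G = 504) (P : Sylow 3 G) (y : G)
    (hyP : y ∈ (P : Subgroup G)) :
    (P : Subgroup G) ≤ Subgroup.centralizer ({y} : Set G) := by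
  intro a ha
  rw [Subgroup.mem_centralizer_singleton_iff]
  exact sylow3_comm h P a ha y hyP

theorem exists_sylow3_mem (y : G) (hy : orderOf y = 3) :
    ∃ P : Sylow 3 G, y ∈ (P : Subgroup G) := by
  have hz : IsPGroup 3 ↥(Subgroup.zpowers y) := by
    apply IsPGroup.of_card (n := 1)
    rw [Nat.card_zpowers, hy]; norm_num
  obtain ⟨P, hP⟩ := hz.exists_le_sylow
  exact ⟨P, hP (Subgroup.mem_zpowers y)⟩

/-- The centralizer of an element of order 3 has order 9. -/
theorem card_centralizer_order3 (h : Nat.card G = 504) (y : G) (hy : orderOf y = 3) :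
    Nat.card ↥(Subgroup.centralizer ({y} : Set G)) = 9 := by
  have hy1 : y ≠ 1 := by
    intro h1; rw [h1, orderOf_one] at hy; omega
  obtain ⟨P, hyP⟩ := exists_sylow3_mem y hy
  set H := Subgroup.centralizer ({y} : Set G) with hH
  have hPH : (P : Subgroup G) ≤ H := sylow3_le_centralizer h P y hyP
  have h7 : ¬ 7 ∣ Nat.card ↥H :=
    not_seven_dvd_card_centralizer h y (by rw [hy]; norm_num) (by rw [hy]; norm_num)
  have h9 : 9 ∣ Nat.card ↥H := by
    rw [← card_sylow3 h P]; exact Subgroup.card_dvd_of_le hPH
  have h504 := card_dvd_504 h H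
  obtain ⟨L, hL⟩ := exists_isNPC_of_abelian H P hPH (sylow3_comm h P) (by
    intro n hnH hnN
    exact mem_sylow3_of_normalizes h P n hnN y hyP hy1
      (Subgroup.mem_centralizer_singleton_iff.mp hnH))
  obtain ⟨j, hj⟩ := hL.idx
  have hcard := Cfsg.Agent.Lib.Helper74.relIndex_mul_card_of_le' hL.le
  rw [hj] at hcard
  have hLcop := hL.cop
  have hLdvd := card_dvd_504 h L
  -- |H| ≠ 72
  have h72 : Nat.card ↥H ≠ 72 := by
    intro h72
    apply index_ne_seven h H
    have := Subgroup.card_mul_index H
    rw [h72, h] at this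
    omega
  -- the possible values
  have hHcases : Nat.card ↥H = 9 ∨ Nat.card ↥H = 18 ∨ Nat.card ↥H = 36 := by
    have hle := Nat.le_of_dvd (by norm_num) h504
    obtain ⟨k, hk⟩ := h9
    rw [hk] at h504 h7 h72 hle ⊢
    have hk56 : k ≤ 56 := by omega
    interval_cases k <;> simp_all
  rcases hHcases with h9' | h18 | h36
  · exact h9'
  · exfalso
    -- |L| = 2
    have hL2 : Nat.card ↥L = 2 := by
      rw [h18] at hcard
      have hj3 : j ≤ 2 := by
        by_contra hcon
        have : 3 ^ 3 ∣ 3 ^ j := pow_dvd_pow 3 (by omega)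
        have h27 : 27 ≤ 3 ^ j := Nat.le_of_dvd (by positivity) (by simpa using this)
        have hLpos : 0 < Nat.card ↥L := Nat.card_pos
        nlinarith
      interval_cases j
      · simp at hcard; rw [hcard] at hLcop; norm_num at hLcop
      · have : Nat.card ↥L = 6 := by omega
        rw [this] at hLcop; norm_num at hLcop
      · omega
    -- the involution of L
    obtain ⟨⟨t, htL⟩, ht⟩ :=
      exists_prime_orderOf_dvd_card' (G := ↥L) 2 (by rw [hL2])
    rw [Subgroup.orderOf_mk] at ht
    have ht1 : t ≠ 1 := by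
      intro h1; rw [h1, orderOf_one] at ht; omega
    have huniq := (Nat.card_eq_two_iff' (1 : ↥L)).mp hL2
    -- P centralizes t
    have htC : t ∈ Subgroup.centralizer ((P : Subgroup G) : Set G) := by
      rw [Subgroup.mem_centralizer_iff]
      intro a ha
      have haN : a ∈ Subgroup.normalizer (L : Set G) := hL.norm (hPH ha)
      have hconj : a * t * a⁻¹ ∈ L := (Subgroup.mem_normalizer_iff.mp haN t).mp htL
      have hne : a * t * a⁻¹ ≠ 1 := by
        intro h1
        apply ht1
        have : t = a⁻¹ * (a * t * a⁻¹) * a := by group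
        rw [this, h1]; group
      have h1 : (⟨a * t * a⁻¹, hconj⟩ : ↥L) = ⟨t, htL⟩ := by
        apply huniq.unique
        · intro h2; exact hne (congrArg Subtype.val h2)
        · intro h2; exact ht1 (congrArg Subtype.val h2)
      have h2 : a * t * a⁻¹ = t := congrArg Subtype.val h1
      calc a * t = a * t * a⁻¹ * a := by group
        _ = t * a := by rw [h2]
    rw [centralizer_sylow3 h P] at htC
    have h3 : orderOf t ∣ 9 := by
      rw [← card_sylow3 h P]; exact Subgroup.orderOf_dvd_natCard _ htC
    rw [ht] at h3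
    norm_num at h3
  · exfalso
    have hL4 : Nat.card ↥L = 4 := by
      rw [h36] at hcard
      have hj3 : j ≤ 3 := by
        by_contra hcon
        have : 3 ^ 4 ∣ 3 ^ j := pow_dvd_pow 3 (by omega)
        have h81 : 81 ≤ 3 ^ j := Nat.le_of_dvd (by positivity) (by simpa using this)
        have hLpos : 0 < Nat.card ↥L := Nat.card_pos
        nlinarith
      interval_cases j
      · simp at hcard; rw [hcard] at hLcop; norm_num at hLcop
      · have : Nat.card ↥L = 12 := by omega
        rw [this] at hLcop; norm_num at hLcop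
      · omega
      · omega
    have hL2grp : IsPGroup 2 ↥L := by
      apply IsPGroup.of_card (n := 2)
      rw [hL4]; norm_num
    obtain ⟨T, hLT⟩ := hL2grp.exists_le_sylow
    have hTN : (T : Subgroup G) ≤ Subgroup.normalizer (L : Set G) :=
      Cfsg.Agent.Lib.Helper23.G168.le_normalizer_of_card_eq_two_mul L T hLT
        (by rw [hL4]; norm_num) (by rw [card_sylow2 h T, hL4])
    have hPN : (P : Subgroup G) ≤ Subgroup.normalizer (L : Set G) := hPH.trans hL.norm
    have h8 : 8 ∣ Nat.card ↥(Subgroup.normalizer (L : Set G)) := by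
      rw [← card_sylow2 h T]; exact Subgroup.card_dvd_of_le hTN
    have h9N : 9 ∣ Nat.card ↥(Subgroup.normalizer (L : Set G)) := by
      rw [← card_sylow3 h P]; exact Subgroup.card_dvd_of_le hPN
    have h72N : 72 ∣ Nat.card ↥(Subgroup.normalizer (L : Set G)) :=
      Nat.Coprime.mul_dvd_of_dvd_of_dvd (by norm_num : Nat.Coprime 8 9) h8 h9N
    have hidx := Subgroup.card_mul_index (Subgroup.normalizer (L : Set G))
    rw [h] at hidx
    obtain ⟨k, hk⟩ := h72N
    rw [hk] at hidx
    have hk7 : k * (Subgroup.normalizer (L : Set G)).index = 7 := by nlinarith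
    have hkd : (Subgroup.normalizer (L : Set G)).index ∣ 7 := Dvd.intro_left _ hk7
    rcases (Nat.dvd_prime (by norm_num : Nat.Prime 7)).mp hkd with h1 | h7'
    · have htop : Subgroup.normalizer (L : Set G) = ⊤ := Subgroup.index_eq_one.mp h1
      have hn : L.Normal := Subgroup.normalizer_eq_top_iff.mp htop
      rcases hn.eq_bot_or_eq_top with hb | ht
      · rw [hb] at hL4; simp at hL4
      · rw [ht] at hL4; simp [h] at hL4
    · exact index_ne_seven h _ h7'

end Cfsg.Agent.Lib.Helper23.G504
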