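import Cfsg.Agent.Lib.Helper23.G504.Basic
import Cfsg.Agent.Lib.Helper23.Focal

namespace Cfsg.Agent.Lib.Helper23.G504

open Cfsg.Agent.Lib.Helper23

variable {G : Type*} [Group G] [Finite G] [IsSimpleGroup G]

set_option linter.unusedSectionVars false

attribute [local instance] fact2 fact3 fact7

theorem card_mul_relIndex' {L : Type*} [Group L] {H K : Subgroup L} (h : H ≤ K) :
    Nat.card H * H.relIndex K = Nat.card K := by
  rw [Subgroup.relIndex, ← Nat.card_congr (Subgroup.subgroupOfEquivOfLe h).toEquiv]
  exact Subgroup.card_mul_index _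

theorem commutator_top (h : Nat.card G = 504) : commutator G = ⊤ := by
  rcases (inferInstance : (commutator G).Normal).eq_bot_or_eq_top with hb | ht
  · exact absurd ((commutator_eq_bot_iff G).mp hb) (not_comm h)
  · exact ht

theorem sylow3_comm (h : Nat.card G = 504) (P : Sylow 3 G) :
    ∀ a ∈ (P : Subgroup G), ∀ b ∈ (P : Subgroup G), a * b = b * a := by
  have hc : Nat.card ↥(P : Subgroup G) = 3 ^ 2 := by rw [card_sylow3 h]; norm_num
  have hcomm := IsPGroup.isMulCommutative_of_card_eq_prime_sq hc
  intro a ha b hb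
  have := hcomm.is_comm.comm ⟨a, ha⟩ ⟨b, hb⟩
  exact congrArg Subtype.val this

/-- An element of `N(P) \ P` (for `P` a Sylow 3-subgroup) acts fixed-point-freely on `P`. -/
theorem fixed_point_free3 (h : Nat.card G = 504) (P : Sylow 3 G) (t : G)
    (ht : t ∈ Subgroup.normalizer ((P : Subgroup G) : Set G)) (htP : t ∉ (P : Subgroup G))
    (x : G) (hx : x ∈ (P : Subgroup G)) (hc : t * x = x * t) : x = 1 := by
  refine eq_one_of_commute_of_focal P (sylow3_comm h P)
    (by rw [commutator_top h]; exact le_top) t ht ?_ x hx hc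
  intro n hn
  by_cases hnP : n ∈ (P : Subgroup G)
  · left; exact hnP
  right
  have hle : (P : Subgroup G) ≤ Subgroup.normalizer ((P : Subgroup G) : Set G) :=
    Subgroup.le_normalizer
  have hidx : ((P : Subgroup G).subgroupOf
      (Subgroup.normalizer ((P : Subgroup G) : Set G))).index = 2 := by
    have := card_mul_relIndex' hle
    rw [card_sylow3 h, card_normalizer3 h] at this
    show (P : Subgroup G).relIndex _ = 2
    omega
  have key := Subgroup.mul_mem_iff_of_index_two hidx
    (a := (⟨t, ht⟩ : ↥(Subgroup.normalizer ((P : Subgroup G) : Set G)))⁻¹) (b := ⟨n, hn⟩)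
  simp only [Subgroup.mem_subgroupOf, Subgroup.coe_mul, Subgroup.coe_inv, inv_mem_iff] at key
  exact key.mpr (iff_of_false htP hnP)

/-- The centralizer of a Sylow 3-subgroup is itself. -/
theorem centralizer_sylow3 (h : Nat.card G = 504) (P : Sylow 3 G) :
    Subgroup.centralizer ((P : Subgroup G) : Set G) = (P : Subgroup G) := by
  symm
  have hle : (P : Subgroup G) ≤ Subgroup.centralizer ((P : Subgroup G) : Set G) := by
    intro a ha
    rw [Subgroup.mem_centralizer_iff]
    intro b hb
    exact sylow3_comm h P b hb a ha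
  apply Subgroup.eq_of_le_of_card_ge hle
  have hCN : Subgroup.centralizer ((P : Subgroup G) : Set G) ≤
      Subgroup.normalizer ((P : Subgroup G) : Set G) := Subgroup.centralizer_le_normalizer _
  have h1 := Subgroup.card_dvd_of_le hCN
  have h2 := Subgroup.card_dvd_of_le hle
  rw [card_normalizer3 h] at h1
  rw [card_sylow3 h] at h2 ⊢
  have hne : Nat.card ↥(Subgroup.centralizer ((P : Subgroup G) : Set G)) ≠ 18 := by
    intro h18
    apply not_le3 h P
    have := Subgroup.eq_of_le_of_card_ge hCN (by rw [h18, card_normalizer3 h])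
    rw [this]
  have hle18 := Nat.le_of_dvd (by norm_num) h1
  generalize Nat.card ↥(Subgroup.centralizer ((P : Subgroup G) : Set G)) = n at *
  interval_cases n <;> omega

/-- an element of `G` normalizing a Sylow 3-subgroup `P` and commuting with a nontrivial
element of `P` lies in `P`. -/
theorem mem_sylow3_of_normalizes (h : Nat.card G = 504) (P : Sylow 3 G) (t : G)
    (ht : t ∈ Subgroup.normalizer ((P : Subgroup G) : Set G))
    (x : G) (hx : x ∈ (P : Subgroup G)) (hx1 : x ≠ 1) (hc : t * x = x * t) :
    t ∈ (P : Subgroup G) := by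
  by_contra htP
  exact hx1 (fixed_point_free3 h P t ht htP x hx hc)

end Cfsg.Agent.Lib.Helper23.G504
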